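import Groth.Agent.Vanish.K660.DimFin
import Groth.Agent.Vanish.K660.FF
import Groth.Agent.Lipman.Loc
import Groth.Agent.Mor.K384.NormNormal
import Groth.Agent.S1297
import Groth.Prelude.Def_Pi1

/-!
# Proper surjective morphisms of varieties of the same dimension

`π : X₁ ⟶ X` a morphism of integral schemes locally of finite type over a field `k`, of the same dimension,
with `π η₁ = η`.

* `eq_genericPoint`: the generic point is the only point over the generic point;
* `ringKrullDim_stalk_eq_one`: points over codimension one points have codimension one;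
* `finiteDimensional_ff`: the function field extension is finite;
* `finite_app`, `isFractionRing_app`, `isIntegrallyClosed_app`: over an affine open `V` of `X`, for `π` proper and
  `X₁` normal, `Γ(X₁, π⁻¹ V)` is a finite `Γ(X, V)`-algebra, an integrally closed domain with fraction field the
  function field of `X₁`.
-/

set_option autoImplicit false

universe u

open CategoryTheory AlgebraicGeometry TopologicalSpace Groth.Agent Groth.Agent.VarietyB.DimSch

namespace K562.DimF

section Dim

variable (k : Type u) [Field k] {X₁ X : Scheme.{u}} [X₁.Over (Spec (CommRingCat.of k))]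
  [X.Over (Spec (CommRingCat.of k))] [LocallyOfFiniteType (X₁ ↘ Spec (CommRingCat.of k))]
  [LocallyOfFiniteType (X ↘ Spec (CommRingCat.of k))] (π : X₁ ⟶ X)
  (hπ : π ≫ (X ↘ Spec (CommRingCat.of k)) = X₁ ↘ Spec (CommRingCat.of k))

include hπ in
/-- Transcendence degrees of residue fields. -/
theorem trd_add (y : X₁) :
    letI := (π.residueFieldMap y).hom.toAlgebra
    (trd k X (π y) : Cardinal.{u}) + Algebra.trdeg (X.residueField (π y)) (X₁.residueField y) =
      trd k X₁ y := by
  let _ := Curv2.resAlgebra k X₁ y
  let _ := Curv2.resAlgebra k X (π y)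
  let _ : Algebra (X.residueField (π y)) (X₁.residueField y) := (π.residueFieldMap y).hom.toAlgebra
  have : IsScalarTower k (X.residueField (π y)) (X₁.residueField y) :=
    IsScalarTower.of_algebraMap_eq' (VarietyB.ResMap.residueFieldMap_comp_resMap k π hπ y).symm
  have h := _root_.trdeg_add_eq k (X.residueField (π y)) (A := X₁.residueField y)
  rw [trdeg_eq_trd k (π y), trdeg_eq_trd k y] at h
  exact h

include hπ in
theorem trd_le (y : X₁) : trd k X (π y) ≤ trd k X₁ y := by
  have h := trd_add k π hπ y
  have h1 : (trd k X (π y) : Cardinal.{u}) ≤ trd k X₁ y := by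
    rw [← h]; exact self_le_add_right _ _
  exact_mod_cast h1

variable [IsIntegral X₁] [IsIntegral X] (hdim : topologicalKrullDim X₁ = topologicalKrullDim X)

include hdim in
theorem trd_genericPoint : trd k X₁ (genericPoint X₁) = trd k X (genericPoint X) := by
  have h4 := topologicalKrullDim_eq_trd k (X := X₁)
  have h5 := topologicalKrullDim_eq_trd k (X := X)
  rw [h4, h5] at hdim
  exact_mod_cast hdim

/-- The dimension formula. -/
theorem ringKrullDim_add (Y : Scheme.{u}) [Y.Over (Spec (CommRingCat.of k))]
    [LocallyOfFiniteType (Y ↘ Spec (CommRingCat.of k))] [IsIntegral Y] (y : Y) :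
    ringKrullDim (Y.presheaf.stalk y) + (trd k Y y : ℕ) = (trd k Y (genericPoint Y) : ℕ) := by
  have h1 := localDim_eq k (X := Y) y
  rw [localDim_eq_of_irreducible k] at h1
  exact h1.symm

include hπ hdim in
theorem ringKrullDim_stalk_le (y : X₁) :
    ringKrullDim (X₁.presheaf.stalk y) ≤ ringKrullDim (X.presheaf.stalk (π y)) := by
  have h1 := ringKrullDim_add k X₁ y
  have h2 := ringKrullDim_add k X (π y)
  have h3 := trd_le k π hπ y
  rw [trd_genericPoint k hdim, ← h2] at h1
  have h4 : ringKrullDim (X₁.presheaf.stalk y) + (trd k X₁ y : ℕ) ≤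
      ringKrullDim (X.presheaf.stalk (π y)) + (trd k X₁ y : ℕ) := by
    rw [h1]
    gcongr
  generalize ringKrullDim (X₁.presheaf.stalk y) = a at h4
  generalize ringKrullDim (X.presheaf.stalk (π y)) = b at h4
  induction a with
  | bot => exact bot_le
  | coe a =>
    induction b with
    | bot =>
      rw [WithBot.bot_add] at h4
      exact absurd (le_bot_iff.mp h4) (by
        have : ((a : ℕ∞) : WithBot ℕ∞) + ((trd k X₁ y : ℕ) : WithBot ℕ∞) =
          ((a + (trd k X₁ y : ℕ∞) : ℕ∞) : WithBot ℕ∞) := rfl
        rw [this]; exact WithBot.coe_ne_bot)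
    | coe b =>
      have e1 : ((a : ℕ∞) : WithBot ℕ∞) + ((trd k X₁ y : ℕ) : WithBot ℕ∞) =
          ((a + (trd k X₁ y : ℕ∞) : ℕ∞) : WithBot ℕ∞) := rfl
      have e2 : ((b : ℕ∞) : WithBot ℕ∞) + ((trd k X₁ y : ℕ) : WithBot ℕ∞) =
          ((b + (trd k X₁ y : ℕ∞) : ℕ∞) : WithBot ℕ∞) := rfl
      rw [e1, e2, WithBot.coe_le_coe] at h4
      rw [WithBot.coe_le_coe]
      exact (ENat.add_le_add_iff_right (ENat.natCast_ne_top _)).mp h4

end Dim

/-- The generic point of an integral scheme is the only one with zero-dimensional local ring. -/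
theorem eq_genericPoint_of_ringKrullDim_le {Y : Scheme.{u}} [IsIntegral Y] {y : Y}
    (h : ringKrullDim (Y.presheaf.stalk y) ≤ 0) : y = genericPoint Y := by
  have hle : Ring.KrullDimLE 0 (Y.presheaf.stalk y) := by
    rw [Ring.krullDimLE_iff]; exact_mod_cast h
  have hf : IsField (Y.presheaf.stalk y) := Ring.KrullDimLE.isField_of_isDomain
  have hx : genericPoint Y ∈ Set.range (Y.fromSpecStalk y) := by
    rw [Scheme.range_fromSpecStalk]
    exact (genericPoint_spec Y).specializes trivial
  obtain ⟨p, hp⟩ := hx
  have hpc : p = IsLocalRing.closedPoint (Y.presheaf.stalk y) := by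
    have h0 := IsLocalRing.isField_iff_maximalIdeal_eq.mp hf
    have h1 : p.asIdeal = ⊥ := by
      rw [eq_bot_iff, ← h0]; exact IsLocalRing.le_maximalIdeal p.isPrime.ne_top
    exact PrimeSpectrum.ext (h1.trans h0.symm)
  rw [hpc, Scheme.fromSpecStalk_closedPoint] at hp
  exact hp

theorem isIso_stalkSpecializes {Y : Scheme.{u}} {x y : Y} (h : x = y) :
    IsIso (Y.presheaf.stalkSpecializes (specializes_of_eq h)) := by
  subst h
  rw [TopCat.Presheaf.stalkSpecializes_refl]
  infer_instance

theorem ringKrullDim_genericPoint (Y : Scheme.{u}) [IsIntegral Y] :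
    ringKrullDim (Y.presheaf.stalk (genericPoint Y)) = 0 :=
  ringKrullDim_eq_zero_of_field Y.functionField

section Main

variable (k : Type u) [Field k] {X₁ X : Scheme.{u}} [X₁.Over (Spec (CommRingCat.of k))]
  [X.Over (Spec (CommRingCat.of k))] [LocallyOfFiniteType (X₁ ↘ Spec (CommRingCat.of k))]
  [LocallyOfFiniteType (X ↘ Spec (CommRingCat.of k))] (π : X₁ ⟶ X)
  (hπ : π ≫ (X ↘ Spec (CommRingCat.of k)) = X₁ ↘ Spec (CommRingCat.of k))
  [IsIntegral X₁] [IsIntegral X] (hdim : topologicalKrullDim X₁ = topologicalKrullDim X)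

omit [X₁.Over (Spec (CommRingCat.of k))] [X.Over (Spec (CommRingCat.of k))]
  [LocallyOfFiniteType (X₁ ↘ Spec (CommRingCat.of k))]
  [LocallyOfFiniteType (X ↘ Spec (CommRingCat.of k))] in
/-- The generic point goes to the generic point. -/
theorem map_genericPoint [Surjective π] : π (genericPoint X₁) = genericPoint X := by
  obtain ⟨y, hy⟩ := π.surjective (genericPoint X)
  have h1 : genericPoint X₁ ⤳ y := (genericPoint_spec X₁).specializes trivial
  have h2 : π (genericPoint X₁) ⤳ π y := h1.map π.continuous
  rw [hy] at h2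
  have h3 : genericPoint X ⤳ π (genericPoint X₁) := (genericPoint_spec X).specializes trivial
  exact (h3.antisymm h2).symm.eq

include hπ hdim in
/-- (a) The generic point is the only point over the generic point. -/
theorem eq_genericPoint {y : X₁} (h : π y = genericPoint X) : y = genericPoint X₁ := by
  apply eq_genericPoint_of_ringKrullDim_le
  refine (ringKrullDim_stalk_le k π hπ hdim y).trans ?_
  rw [h, ringKrullDim_genericPoint]

include hπ hdim in
/-- (b) Points over codimension one points have codimension one. -/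
theorem ringKrullDim_stalk_eq_one (hg : π (genericPoint X₁) = genericPoint X) {y : X₁}
    (h : ringKrullDim (X.presheaf.stalk (π y)) = 1) : ringKrullDim (X₁.presheaf.stalk y) = 1 := by
  refine le_antisymm ((ringKrullDim_stalk_le k π hπ hdim y).trans_eq h) ?_
  by_contra hlt
  have h0 : ringKrullDim (X₁.presheaf.stalk y) ≤ 0 := by
    have := not_le.mp hlt
    generalize ringKrullDim (X₁.presheaf.stalk y) = a at this
    induction a with
    | bot => exact bot_le
    | coe a =>
      have h1 : a < 1 := by exact_mod_cast this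
      have h2 : a = 0 := by simpa using h1
      rw [h2]; rfl
  have hy := eq_genericPoint_of_ringKrullDim_le h0
  rw [hy, hg, ringKrullDim_genericPoint] at h
  exact zero_ne_one h

omit [X₁.Over (Spec (CommRingCat.of k))] [X.Over (Spec (CommRingCat.of k))]
  [LocallyOfFiniteType (X₁ ↘ Spec (CommRingCat.of k))]
  [LocallyOfFiniteType (X ↘ Spec (CommRingCat.of k))] in
theorem bijective_residue (Y : Scheme.{u}) [IsIntegral Y] {y : Y} (hy : y = genericPoint Y) :
    Function.Bijective (Y.residue y).hom := by
  subst hy
  exact ⟨(Y.residue (genericPoint Y)).hom.injective, Y.residue_surjective _⟩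

include hπ hdim in
/-- (c) The extension of function fields is finite. -/
theorem finiteDimensional_ff (hg : π (genericPoint X₁) = genericPoint X) :
    @FiniteDimensional X.functionField X₁.functionField _ _ (K660.FF.ff π hg).toAlgebra.toModule := by
  let _ : Algebra X.functionField X₁.functionField := (K660.FF.ff π hg).toAlgebra
  have hlft : LocallyOfFiniteType π := by
    have : LocallyOfFiniteType (π ≫ (X ↘ Spec (CommRingCat.of k))) := by rw [hπ]; infer_instance
    exact locallyOfFiniteType_of_comp π (X ↘ Spec (CommRingCat.of k))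
  have hiso : IsIso (X.presheaf.stalkSpecializes (specializes_of_eq hg)) :=
    isIso_stalkSpecializes hg
  have halg : @Algebra.IsAlgebraic (X.residueField (π (genericPoint X₁)))
      (X₁.residueField (genericPoint X₁)) _ _ (π.residueFieldMap (genericPoint X₁)).hom.toAlgebra := by
    let _ : Algebra (X.residueField (π (genericPoint X₁))) (X₁.residueField (genericPoint X₁)) :=
      (π.residueFieldMap (genericPoint X₁)).hom.toAlgebra
    have h := trd_add k π hπ (genericPoint X₁)
    have h' : (trd k X (π (genericPoint X₁)) : Cardinal.{u}) +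
        Algebra.trdeg (X.residueField (π (genericPoint X₁))) (X₁.residueField (genericPoint X₁)) =
      trd k X (π (genericPoint X₁)) + 0 := by
      rw [add_zero]
      refine h.trans ?_
      rw [trd_genericPoint k hdim, hg]
    exact trdeg_eq_zero_iff.mp (Cardinal.eq_of_add_eq_add_left h' Cardinal.natCast_lt_aleph0)
  have halg' : Algebra.IsAlgebraic X.functionField X₁.functionField := by
    let _ : Algebra (X.residueField (π (genericPoint X₁))) (X₁.residueField (genericPoint X₁)) :=
      (π.residueFieldMap (genericPoint X₁)).hom.toAlgebra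
    refine Algebra.IsAlgebraic.of_ringHom_of_comp_eq
      (S := X.residueField (π (genericPoint X₁))) (B := X₁.residueField (genericPoint X₁))
      ((X.residue _).hom.comp (X.presheaf.stalkSpecializes (specializes_of_eq hg)).hom)
      (X₁.residue (genericPoint X₁)).hom ?_ (bijective_residue X₁ rfl).1 ?_
    · rw [RingHom.coe_comp]
      refine (bijective_residue X hg).2.comp ?_
      exact (ConcreteCategory.bijective_of_isIso (X.presheaf.stalkSpecializes (specializes_of_eq hg))).2
    · have h1 := Scheme.residue_residueFieldMap π (genericPoint X₁)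
      have h2 : X.presheaf.stalkSpecializes (specializes_of_eq hg) ≫ X.residue _ ≫
          π.residueFieldMap (genericPoint X₁) =
          (X.presheaf.stalkSpecializes (specializes_of_eq hg) ≫ π.stalkMap (genericPoint X₁)) ≫
            X₁.residue (genericPoint X₁) := by
        rw [h1, Category.assoc]
      exact congrArg CommRingCat.Hom.hom h2
  have hess : Algebra.EssFiniteType X.functionField X₁.functionField := by
    have h1 : (π.stalkMap (genericPoint X₁)).hom.EssFiniteType := LocallyOfFiniteType.stalkMap π _
    have h2 : (X.presheaf.stalkSpecializes (specializes_of_eq hg)).hom.EssFiniteType :=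
      (RingHom.FiniteType.of_surjective _ (ConcreteCategory.bijective_of_isIso
        (X.presheaf.stalkSpecializes (specializes_of_eq hg))).2).essFiniteType
    exact RingHom.EssFiniteType.comp h2 h1
  exact Algebra.finite_of_essFiniteType_of_isAlgebraic

end Main

section Sections

variable {X₁ X : Scheme.{u}} (π : X₁ ⟶ X)

/-- (d) Finiteness of the sections over an affine open. -/
theorem finite_app [IsProper π] [IsLocallyNoetherian X] {V : X.Opens} (hV : IsAffineOpen V) :
    (π.app V).hom.Finite := by
  have : IsNoetherianRing Γ(X, V) := IsLocallyNoetherian.component_noetherian ⟨V, hV⟩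
  have : IsAffine V.toScheme := hV
  have : IsNoetherianRing Γ(V, ⊤) := by
    have : IsNoetherianRing Γ(X, V.ι ''ᵁ ⊤) := by rwa [Scheme.Opens.ι_image_top]
    exact this
  have h1 := Groth.Agent.S1297.finite_appTop (π ∣_ V)
  rw [morphismRestrict_appTop] at h1
  have h1' := (RingHom.finite_respectsIso.{u}.cancel_right_isIso _ _).mp h1
  have e : V.ι ''ᵁ ⊤ = V := Scheme.Opens.ι_image_top V
  rwa [e] at h1'

variable [IsIntegral X₁] [IsIntegral X]

theorem nonempty_preimage (hg : π (genericPoint X₁) = genericPoint X) (V : X.Opens) [hV : Nonempty V] :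
    Nonempty (π ⁻¹ᵁ V) := by
  refine ⟨⟨genericPoint X₁, ?_⟩⟩
  change π (genericPoint X₁) ∈ V
  rw [hg]
  obtain ⟨v, hv⟩ := hV
  exact ((genericPoint_spec X).mem_open_set_iff V.isOpen).mpr ⟨v, trivial, hv⟩

/-- (d) Normality of the sections over an open. -/
theorem isIntegrallyClosed_app (hX₁ : Pi1.IsNormalScheme X₁) (W : X₁.Opens) [hW : Nonempty W] :
    IsIntegrallyClosed Γ(X₁, W) := by
  obtain ⟨w, hw⟩ := hW
  refine (K384.NormNormal.normal_sections hX₁ W ⟨⟨w, hw⟩, ?_⟩).2
  exact (PreirreducibleSpace.isPreirreducible_univ (X := X₁)).open_subset W.isOpen (Set.subset_univ _)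

/-- (d) The fraction field of the sections over an affine open. -/
theorem isFractionRing_app (hg : π (genericPoint X₁) = genericPoint X)
    (hfin : @FiniteDimensional X.functionField X₁.functionField _ _ (K660.FF.ff π hg).toAlgebra.toModule)
    (hX₁ : Pi1.IsNormalScheme X₁) {V : X.Opens} (hV : IsAffineOpen V) [Nonempty V]
    [Nonempty (π ⁻¹ᵁ V)] : IsFractionRing Γ(X₁, π ⁻¹ᵁ V) X₁.functionField := by
  let _ : Algebra X.functionField X₁.functionField := (K660.FF.ff π hg).toAlgebra
  let _ : Algebra Γ(X, V) X₁.functionField :=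
    ((K660.FF.ff π hg).comp (algebraMap Γ(X, V) X.functionField)).toAlgebra
  have : IsScalarTower Γ(X, V) X.functionField X₁.functionField := IsScalarTower.of_algebraMap_eq' rfl
  have hfr : IsFractionRing Γ(X, V) X.functionField := functionField_isFractionRing_of_isAffineOpen X V hV
  have hgV : genericPoint X ∈ V := by
    obtain ⟨v, hv⟩ := (inferInstance : Nonempty V)
    exact ((genericPoint_spec X).mem_open_set_iff V.isOpen).mpr ⟨v, trivial, hv⟩
  have hgV' : genericPoint X₁ ∈ π ⁻¹ᵁ V := by
    change π (genericPoint X₁) ∈ V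
    rw [hg]; exact hgV
  have hmap : ∀ a : Γ(X, V), algebraMap Γ(X, V) X₁.functionField a =
      algebraMap Γ(X₁, π ⁻¹ᵁ V) X₁.functionField ((π.app V).hom a) := fun a =>
    K660.FF.ff_germ π hg V hgV hgV' a
  have hinj : Function.Injective (algebraMap Γ(X₁, π ⁻¹ᵁ V) X₁.functionField) :=
    X₁.germToFunctionField_injective (π ⁻¹ᵁ V)
  have hinjV : Function.Injective (algebraMap Γ(X, V) X₁.functionField) :=
    (K660.FF.ff π hg).injective.comp (IsFractionRing.injective Γ(X, V) X.functionField)
  have halg : Algebra.IsAlgebraic Γ(X, V) X₁.functionField := by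
    have h1 : Algebra.IsAlgebraic Γ(X, V) X.functionField :=
      IsLocalization.isAlgebraic X.functionField (nonZeroDivisors Γ(X, V))
    have h2 : Algebra.IsAlgebraic X.functionField X₁.functionField := Algebra.IsAlgebraic.of_finite _ _
    exact Algebra.IsAlgebraic.trans Γ(X, V) X.functionField X₁.functionField
  -- integral elements are sections
  have hint : ∀ f : X₁.functionField, IsIntegral Γ(X, V) f →
      ∃ s : Γ(X₁, π ⁻¹ᵁ V), algebraMap Γ(X₁, π ⁻¹ᵁ V) X₁.functionField s = f := by
    intro f hf
    refine Groth.Agent.Lipman.Loc.exists_section (π ⁻¹ᵁ V) f fun x hx => ?_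
    have hn := (hX₁ x).2
    have hd := (hX₁ x).1
    have hfx : IsIntegral (X₁.presheaf.stalk x) f := by
      obtain ⟨P, hP, hPf⟩ := hf
      let φ : Γ(X, V) →+* X₁.presheaf.stalk x :=
        (X₁.presheaf.germ (π ⁻¹ᵁ V) x hx).hom.comp (π.app V).hom
      refine ⟨P.map φ, hP.map φ, ?_⟩
      rw [Polynomial.eval₂_map]
      have hφ : (algebraMap (X₁.presheaf.stalk x) X₁.functionField).comp φ =
          algebraMap Γ(X, V) X₁.functionField := by
        ext a
        rw [hmap]
        exact Scheme.algebraMap_germ_eq_germToFunctionField X₁ hx _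
      rw [hφ]
      exact hPf
    obtain ⟨r, hr⟩ := IsIntegrallyClosed.isIntegral_iff.mp hfx
    exact ⟨r, hr⟩
  have : FaithfulSMul Γ(X₁, π ⁻¹ᵁ V) X₁.functionField := (faithfulSMul_iff_algebraMap_injective _ _).mpr hinj
  refine IsFractionRing.of_field Γ(X₁, π ⁻¹ᵁ V) X₁.functionField fun z => ?_
  obtain ⟨a, ha, haz⟩ := IsAlgebraic.exists_integral_multiple (halg.isAlgebraic z)
  obtain ⟨s, hs⟩ := hint _ haz
  refine ⟨s, (π.app V).hom a, ?_⟩
  rw [← hmap, hs, Algebra.smul_def]
  have : algebraMap Γ(X, V) X₁.functionField a ≠ 0 := fun h => ha (hinjV (by rw [h, map_zero]))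
  field_simp

end Sections

end K562.DimF
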