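import Groth.Agent.SDiv.K475.RefAlg
import Groth.Agent.Grpsch.AmpPrincipal
import Mathlib.RingTheory.Trace.Quotient
import Mathlib.RingTheory.Trace.Basic
import Mathlib.RingTheory.QuasiFinite.Basic
import Mathlib.RingTheory.DedekindDomain.Dvr
import Mathlib.RingTheory.Idempotents
import Mathlib.RingTheory.IntegralClosure.IntegralRestrict

/-!
# Forms on a finite extension of normal domains of residue characteristic zero

`K562.TraceAlg.main`: let `A → B` be a finite injective map of normal domains, `A` Noetherian with
all non-zero integers invertible, `K`, `L` the fraction fields. An `A`-linear `θ : B → A` which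
sends the elements lying in all primes over a height one prime `p` into `p` is
`b ↦ Tr_{L/K}(g b)` for some `g ∈ B`.
-/

set_option autoImplicit false

namespace K562.TraceAlg

open Algebra

/-- In a finite algebra over a field of characteristic zero, an element `e` with `e (e - 1)`
nilpotent and zero trace is nilpotent. -/
theorem isNilpotent_of_trace_eq_zero {k C : Type*} [Field k] [CharZero k] [CommRing C] [Algebra k C]
    [Module.Finite k C] (e : C) (he : IsNilpotent (e * (e - 1))) (h0 : Algebra.trace k C e = 0) :
    IsNilpotent e := by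
  have hk : ∀ x ∈ RingHom.ker (Ideal.Quotient.mk (nilradical C)), IsNilpotent x := by
    intro x hx
    rwa [Ideal.mk_ker] at hx
  have hid : IsIdempotentElem (Ideal.Quotient.mk (nilradical C) e) := by
    unfold IsIdempotentElem
    rw [← map_mul, Ideal.Quotient.eq, mem_nilradical]
    have : e * e - e = e * (e - 1) := by ring
    rwa [this]
  obtain ⟨e', he', hee'⟩ := exists_isIdempotentElem_eq_of_ker_isNilpotent
    (Ideal.Quotient.mk (nilradical C)) hk _ ⟨e, rfl⟩ hid
  have hnil : IsNilpotent (e - e') := by
    rw [← mem_nilradical, ← Ideal.Quotient.eq]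
    exact hee'.symm
  have htr : Algebra.trace k C (e - e') = 0 :=
    (Algebra.isNilpotent_trace_of_isNilpotent hnil).eq_zero
  have htr' : Algebra.trace k C e' = 0 := by
    have := map_sub (Algebra.trace k C) e e'
    rw [htr, h0, zero_sub] at this
    exact neg_eq_zero.mp this.symm
  have hidL : IsIdempotentElem (Algebra.lmul k C e') := by
    unfold IsIdempotentElem
    rw [← map_mul, he'.eq]
  rw [Algebra.trace_apply] at htr'
  have hz : Algebra.lmul k C e' = 0 := (LinearMap.IsIdempotentElem.trace_eq_zero_iff hidL).mp htr'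
  have : e' = 0 := by
    have := LinearMap.congr_fun hz 1
    simpa using this
  rw [this, sub_zero] at hnil
  exact hnil

section Local

attribute [local instance] Ideal.Quotient.field

/-- Local form: an element `z` of a finite free algebra over a local ring of residue characteristic
zero which is modulo each prime over the maximal ideal either `0` or the unit `u`, and is not in
all of them, has a trace which is a unit. -/
theorem trace_notMem_of_local {R S : Type*} [CommRing R] [IsLocalRing R] [CommRing S] [Algebra R S]
    [Module.Free R S] [Module.Finite R S] [CharZero (R ⧸ IsLocalRing.maximalIdeal R)] (z : S)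
    (u : R) (hu : IsUnit u)
    (hz : ∀ Q : Ideal S, Q.IsPrime → (IsLocalRing.maximalIdeal R).map (algebraMap R S) ≤ Q →
      z * (z - algebraMap R S u) ∈ Q)
    (Q : Ideal S) (hQ : Q.IsPrime)
    (hmQ : (IsLocalRing.maximalIdeal R).map (algebraMap R S) ≤ Q) (hzQ : z ∉ Q) :
    Algebra.trace R S z ∉ IsLocalRing.maximalIdeal R := by
  intro htr
  obtain ⟨v, rfl⟩ := hu
  set I := (IsLocalRing.maximalIdeal R).map (algebraMap R S) with hI
  let e : S := algebraMap R S ((v⁻¹ : Rˣ) : R) * z
  have hvv : algebraMap R S ((v⁻¹ : Rˣ) : R) * algebraMap R S (v : R) = 1 := by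
    rw [← map_mul, Units.inv_mul, map_one]
  have htr0 : Algebra.trace (R ⧸ IsLocalRing.maximalIdeal R) (S ⧸ I) (Ideal.Quotient.mk I e) = 0 := by
    rw [Algebra.trace_quotient_mk]
    have : e = ((v⁻¹ : Rˣ) : R) • z := by rw [Algebra.smul_def]
    rw [this, map_smul, smul_eq_mul, Ideal.Quotient.eq_zero_iff_mem]
    exact Ideal.mul_mem_left _ _ htr
  have hrad : z * (z - algebraMap R S (v : R)) ∈ I.radical := by
    rw [Ideal.radical_eq_sInf, Ideal.mem_sInf]
    rintro J ⟨hJ, hJp⟩
    exact hz J hJp hJ
  have hmk : ∀ x : S, IsNilpotent (Ideal.Quotient.mk I x) ↔ x ∈ I.radical := by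
    intro x
    constructor
    · rintro ⟨n, hn⟩
      rw [← map_pow, Ideal.Quotient.eq_zero_iff_mem] at hn
      exact ⟨n, hn⟩
    · rintro ⟨n, hn⟩
      exact ⟨n, by rw [← map_pow, Ideal.Quotient.eq_zero_iff_mem]; exact hn⟩
  have hnil : IsNilpotent (Ideal.Quotient.mk I e * (Ideal.Quotient.mk I e - 1)) := by
    rw [← map_one (Ideal.Quotient.mk I), ← map_sub, ← map_mul, hmk]
    have h2 : e * (e - 1) = algebraMap R S ((v⁻¹ : Rˣ) : R) ^ 2 * (z * (z - algebraMap R S (v : R))) := by
      simp only [e]
      linear_combination (algebraMap R S ((v⁻¹ : Rˣ) : R) * z) * hvv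
    rw [h2]
    exact Ideal.mul_mem_left _ _ hrad
  have : Module.Finite (R ⧸ IsLocalRing.maximalIdeal R) (S ⧸ I) :=
    Module.Finite.of_restrictScalars_finite R _ _
  have hen := isNilpotent_of_trace_eq_zero (k := R ⧸ IsLocalRing.maximalIdeal R) _ hnil htr0
  rw [hmk] at hen
  have heQ : e ∈ Q := by
    have := (Ideal.IsPrime.radical_le_iff hQ).mpr hmQ
    exact this hen
  apply hzQ
  have : z = algebraMap R S (v : R) * e := by
    simp only [e]
    linear_combination (-z) * hvv
  rw [this]
  exact Ideal.mul_mem_left _ _ heQ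

end Local

/-- A localization of a Noetherian normal domain at a prime of height one is a PID. -/
theorem isPrincipalIdealRing_of_height_one {A : Type*} [CommRing A] [IsDomain A]
    [IsNoetherianRing A] [IsIntegrallyClosed A] (p : Ideal A) [p.IsPrime] (hp : p.height = 1) :
    IsPrincipalIdealRing (Localization.AtPrime p) := by
  have : IsIntegrallyClosed (Localization.AtPrime p) :=
    isIntegrallyClosed_of_isLocalization _ p.primeCompl p.primeCompl_le_nonZeroDivisors
  have : IsNoetherianRing (Localization.AtPrime p) :=
    IsLocalization.isNoetherianRing p.primeCompl _ inferInstance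
  have H := (tfae_of_isNoetherianRing_of_isLocalRing_of_isDomain (Localization.AtPrime p)).out 3 0
  refine H.mp ⟨inferInstance, fun P hP hPp => ?_⟩
  by_contra hne
  have h1 : P < IsLocalRing.maximalIdeal (Localization.AtPrime p) :=
    lt_of_le_of_ne (IsLocalRing.le_maximalIdeal hPp.ne_top) hne
  have h2 : (⊥ : Ideal (Localization.AtPrime p)) < P := bot_lt_iff_ne_bot.mpr hP
  have h3 := Ideal.height_add_one_le_of_lt_of_isPrime h1
  have h4 := Ideal.height_add_one_le_of_lt_of_isPrime h2
  have h5 : (IsLocalRing.maximalIdeal (Localization.AtPrime p)).height = 1 := by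
    have h6 := IsLocalRing.maximalIdeal_height_eq_ringKrullDim (R := Localization.AtPrime p)
    rw [IsLocalization.AtPrime.ringKrullDim_eq_height p, hp] at h6
    exact_mod_cast h6
  rw [h5] at h3
  have h7 : (1 : ℕ∞) ≤ P.height := le_trans (by simp) h4
  have h8 : (1 : ℕ∞) + 1 ≤ 1 := le_trans (by gcongr) h3
  exact absurd h8 (by decide)

section Glob

open nonZeroDivisors

variable {A B : Type*} [CommRing A] [IsDomain A] [IsNoetherianRing A] [IsIntegrallyClosed A]
  [CommRing B] [IsDomain B] [IsIntegrallyClosed B] [Algebra A B] [Module.Finite A B]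

/-- The integral trace of an element which is modulo each prime over the height one prime `p`
either `0` or `u ∉ p`, and which is not in all of them, is not in `p`. -/
theorem intTrace_notMem (hA : ∀ n : ℕ, n ≠ 0 → IsUnit (n : A))
    (hinj : Function.Injective (algebraMap A B)) (p : Ideal A) [hp : p.IsPrime] (hp1 : p.height = 1)
    (z : B) (u : A) (hu : u ∉ p)
    (hz : ∀ q : Ideal B, q.IsPrime → q.comap (algebraMap A B) = p → z * (z - algebraMap A B u) ∈ q)
    (q : Ideal B) (hq : q.IsPrime) (hqp : q.comap (algebraMap A B) = p) (hzq : z ∉ q) :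
    haveI : FaithfulSMul A B := (faithfulSMul_iff_algebraMap_injective A B).mpr hinj
    Algebra.intTrace A B z ∉ p := by
  have : FaithfulSMul A B := (faithfulSMul_iff_algebraMap_injective A B).mpr hinj
  intro htr
  let R := Localization.AtPrime p
  let S := Localization (Algebra.algebraMapSubmonoid B p.primeCompl)
  let : Algebra R S := localizationAlgebra p.primeCompl B
  have : IsScalarTower A R S := IsScalarTower.of_algebraMap_eq'
    (by rw [RingHom.algebraMap_toAlgebra, IsLocalization.map_comp, ← IsScalarTower.algebraMap_eq])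
  have : IsLocalization (Submonoid.map (algebraMap A B) (Ideal.primeCompl p)) S :=
    inferInstanceAs (IsLocalization (Algebra.algebraMapSubmonoid B p.primeCompl) S)
  have e : Algebra.algebraMapSubmonoid B p.primeCompl ≤ B⁰ :=
    Submonoid.map_le_of_le_comap _ <| p.primeCompl_le_nonZeroDivisors.trans
      (nonZeroDivisors_le_comap_nonZeroDivisors_of_injective _
        (FaithfulSMul.algebraMap_injective _ _))
  have : IsDomain S := IsLocalization.isDomain_of_le_nonZeroDivisors _ e
  have : Module.IsTorsionFree R S := by
    rw [Module.isTorsionFree_iff_algebraMap_injective, RingHom.injective_iff_ker_eq_bot,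
      RingHom.ker_eq_bot_iff_eq_zero]
    simp
  have : Module.Finite R S := .of_isLocalization A B p.primeCompl
  have : IsIntegrallyClosed S := isIntegrallyClosed_of_isLocalization _ _ e
  have : IsPrincipalIdealRing R := isPrincipalIdealRing_of_height_one p hp1
  have : Module.Free R S := Module.free_of_finite_type_torsion_free'
  have hchar : CharZero (R ⧸ IsLocalRing.maximalIdeal R) := by
    refine charZero_of_inj_zero fun n hn => ?_
    by_contra hn0
    have h1 := ((hA n hn0).map (algebraMap A R)).map (Ideal.Quotient.mk (IsLocalRing.maximalIdeal R))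
    rw [map_natCast, map_natCast, hn] at h1
    exact not_isUnit_zero h1
  have htrR : Algebra.trace R S (algebraMap B S z) ∈ IsLocalRing.maximalIdeal R := by
    rw [← Algebra.intTrace_eq_trace,
      ← Algebra.intTrace_eq_of_isLocalization A B p.primeCompl (Aₘ := R) (Bₘ := S) z]
    rw [← Localization.AtPrime.map_eq_maximalIdeal]
    exact Ideal.mem_map_of_mem _ htr
  have hmap : (IsLocalRing.maximalIdeal R).map (algebraMap R S) =
      (p.map (algebraMap A B)).map (algebraMap B S) := by
    rw [← Localization.AtPrime.map_eq_maximalIdeal, Ideal.map_map, Ideal.map_map,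
      ← IsScalarTower.algebraMap_eq, ← IsScalarTower.algebraMap_eq]
  have hdisj : Disjoint (Algebra.algebraMapSubmonoid B p.primeCompl : Set B) (q : Set B) := by
    rw [Set.disjoint_left]
    rintro _ ⟨s, hs, rfl⟩ hsq
    exact hs (by rw [← hqp]; exact hsq)
  refine trace_notMem_of_local (algebraMap B S z) (algebraMap A R u)
    (IsLocalization.map_units (M := p.primeCompl) R ⟨u, hu⟩) ?_ (q.map (algebraMap B S))
    (IsLocalization.isPrime_of_isPrime_disjoint _ S q hq hdisj) ?_ ?_ htrR
  · intro Q hQ hmQ
    have h1 : (Q.comap (algebraMap B S)).comap (algebraMap A B) = p := by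
      rw [Ideal.comap_comap, ← IsScalarTower.algebraMap_eq, IsScalarTower.algebraMap_eq A R S,
        ← Ideal.comap_comap]
      have h2 : Q.comap (algebraMap R S) = IsLocalRing.maximalIdeal R := by
        refine ((IsLocalRing.maximalIdeal.isMaximal R).eq_of_le ?_ ?_).symm
        · exact (hQ.comap (algebraMap R S)).ne_top
        · exact Ideal.map_le_iff_le_comap.mp hmQ
      rw [h2]
      exact Localization.AtPrime.under_maximalIdeal
    have h3 := hz (Q.comap (algebraMap B S)) (hQ.comap _) h1
    rw [Ideal.mem_comap, map_mul, map_sub, ← IsScalarTower.algebraMap_apply,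
      IsScalarTower.algebraMap_apply A R S] at h3
    exact h3
  · rw [hmap]
    refine Ideal.map_mono ?_
    rw [Ideal.map_le_iff_le_comap, hqp]
  · intro hzQ
    apply hzq
    have := IsLocalization.under_map_of_isPrime_disjoint
      (Algebra.algebraMapSubmonoid B p.primeCompl) S hq hdisj
    rw [← this]
    exact hzQ

/-- In the local ring of a Noetherian normal domain at a prime of height one, one of two elements
divides the other. -/
theorem dvd_total_of_height_one [IsNoetherianRing B] (q : Ideal B) [q.IsPrime] (hq : q.height = 1)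
    (x y : B) : (∃ c t, t ∉ q ∧ t * y = c * x) ∨ ∃ c t, t ∉ q ∧ t * x = c * y := by
  have := isPrincipalIdealRing_of_height_one q hq
  have key : ∀ x y : B, algebraMap B (Localization.AtPrime q) x ∣
      algebraMap B (Localization.AtPrime q) y → ∃ c t, t ∉ q ∧ t * y = c * x := by
    rintro x y ⟨w, hw⟩
    obtain ⟨c, t, rfl⟩ := IsLocalization.exists_mk'_eq q.primeCompl w
    refine ⟨c, t, t.2, ?_⟩
    apply IsLocalization.injective (Localization.AtPrime q) q.primeCompl_le_nonZeroDivisors
    rw [map_mul, map_mul, hw, mul_comm (algebraMap B (Localization.AtPrime q) c),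
      mul_left_comm, mul_comm (algebraMap B (Localization.AtPrime q) (t : B)),
      IsLocalization.mk'_spec]
  rcases ValuationRing.dvd_total (algebraMap B (Localization.AtPrime q) x)
    (algebraMap B (Localization.AtPrime q) y) with h | h
  · exact Or.inl (key x y h)
  · exact Or.inr (key y x h)

end Glob

section Main

open nonZeroDivisors

variable {A B K L : Type*} [CommRing A] [IsDomain A] [IsNoetherianRing A] [IsIntegrallyClosed A]
  [CommRing B] [IsDomain B] [IsIntegrallyClosed B] [Algebra A B] [Module.Finite A B]
  [Field K] [Algebra A K] [IsFractionRing A K] [Field L] [Algebra B L] [IsFractionRing B L]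
  [Algebra K L] [Algebra A L] [IsScalarTower A K L] [IsScalarTower A B L]

omit [IsNoetherianRing A] [IsIntegrallyClosed A] [IsDomain B] in
include A in
theorem finiteDimensional (hinj : Function.Injective (algebraMap A B)) : FiniteDimensional K L := by
  have : FaithfulSMul A B := (faithfulSMul_iff_algebraMap_injective A B).mpr hinj
  have : IsIntegralClosure B A L := IsIntegralClosure.of_isIntegrallyClosed _ _ _
  have : Algebra.IsAlgebraic K L := isAlgebraic_of_isFractionRing A B ..
  have hloc : IsLocalization (algebraMapSubmonoid B A⁰) L :=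
    IsIntegralClosure.isLocalization A K L B
  exact .of_isLocalization A B A⁰

omit [IsNoetherianRing A] [IsIntegrallyClosed A] [IsDomain B] in
/-- An `A`-linear form on `B` is `b ↦ Tr(g b)` for some `g ∈ L`. -/
theorem exists_field (hA : ∀ n : ℕ, n ≠ 0 → IsUnit (n : A))
    (hinj : Function.Injective (algebraMap A B)) (θ : B →ₗ[A] A) :
    ∃ g : L, ∀ b : B, algebraMap A K (θ b) = Algebra.trace K L (g * algebraMap B L b) := by
  have hcA : CharZero A := charZero_of_inj_zero fun n hn => by
    by_contra hn0
    have h1 := hA n hn0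
    rw [hn] at h1
    exact not_isUnit_zero h1
  have hcK : CharZero K := charZero_of_injective_algebraMap (IsFractionRing.injective A K)
  have : FaithfulSMul A B := (faithfulSMul_iff_algebraMap_injective A B).mpr hinj
  have : IsIntegralClosure B A L := IsIntegralClosure.of_isIntegrallyClosed _ _ _
  have : Algebra.IsAlgebraic K L := isAlgebraic_of_isFractionRing A B ..
  have hloc : IsLocalization (algebraMapSubmonoid B A⁰) L :=
    IsIntegralClosure.isLocalization A K L B
  have : FiniteDimensional K L := .of_isLocalization A B A⁰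
  have : IsLocalizedModule A⁰ (IsScalarTower.toAlgHom A B L).toLinearMap :=
    isLocalizedModule_iff_isLocalization.mpr hloc
  let θA : L →ₗ[A] K := IsLocalizedModule.map A⁰ (IsScalarTower.toAlgHom A B L).toLinearMap
    (Algebra.linearMap A K) θ
  have hθA : ∀ b : B, θA (algebraMap B L b) = algebraMap A K (θ b) := by
    intro b
    exact IsLocalizedModule.map_apply A⁰ (IsScalarTower.toAlgHom A B L).toLinearMap
      (Algebra.linearMap A K) θ b
  let θK : L →ₗ[K] K := θA.extendScalarsOfIsLocalization A⁰ K
  have hθK : ∀ b : B, θK (algebraMap B L b) = algebraMap A K (θ b) := hθA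
  refine ⟨((Algebra.traceForm K L).toDual (traceForm_nondegenerate K L)).symm θK, fun b => ?_⟩
  rw [← hθK b]
  have h1 := ((Algebra.traceForm K L).toDual (traceForm_nondegenerate K L)).apply_symm_apply θK
  have h2 := LinearMap.congr_fun h1 (algebraMap B L b)
  rw [LinearMap.BilinForm.toDual_def] at h2
  rw [← h2, Algebra.traceForm_apply]

omit [IsDomain A] [IsNoetherianRing A] [IsIntegrallyClosed A] [IsDomain B] [IsIntegrallyClosed B] in
/-- A finite set of pairwise incomparable primes over `p`: for a prime `q` over `p` and `s ∉ q`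
there are `h ∈ B` and `u ∉ p` such that `h s - u ∈ q` and `h` is in every other prime over `p`. -/
theorem exists_sep (p : Ideal A) (q : Ideal B) [hq : q.IsPrime]
    (hqp : q.comap (algebraMap A B) = p) (s : B) (hs : s ∉ q) :
    ∃ (h : B) (u : A), u ∉ p ∧ h * s - algebraMap A B u ∈ q ∧
      ∀ q' : Ideal B, q'.IsPrime → q'.comap (algebraMap A B) = p → q' ≠ q → h ∈ q' := by
  classical
  have hfin : (p.primesOver B).Finite := Algebra.QuasiFinite.finite_primesOver p
  let T : Finset (Ideal B) := hfin.toFinset.erase q
  have hT : ¬ T.inf id ≤ q := by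
    intro h
    obtain ⟨q', hq', hle⟩ := (Ideal.IsPrime.inf_le' hq).mp h
    replace hle : q' ≤ q := hle
    have h1 : q' ≠ q := Finset.ne_of_mem_erase hq'
    have h2 : q' ∈ p.primesOver B := hfin.mem_toFinset.mp (Finset.mem_of_mem_erase hq')
    obtain ⟨h3, h4⟩ := h2
    have h5 := Ideal.IsIntegral.comap_lt_comap (R := A) (lt_of_le_of_ne hle h1)
    rw [hqp] at h5
    have h6 : q'.comap (algebraMap A B) = p := h4.over.symm
    exact h5.ne h6
  obtain ⟨h₀, hh₀, hh₀q⟩ := Set.not_subset.mp hT
  have hsq : h₀ * s ∉ q := fun h => (hq.mem_or_mem h).elim hh₀q hs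
  have hlt : q.comap (algebraMap A B) < (q ⊔ Ideal.span {h₀ * s}).comap (algebraMap A B) :=
    Ideal.comap_lt_comap_of_integral_mem_sdiff le_sup_left
      ⟨Ideal.mem_sup_right (Ideal.mem_span_singleton_self _), hsq⟩ (Algebra.IsIntegral.isIntegral _)
  obtain ⟨u, hu, hup⟩ := Set.exists_of_ssubset hlt
  rw [hqp] at hup
  obtain ⟨a, ha, b, hb, hab⟩ := Submodule.mem_sup.mp hu
  obtain ⟨c, rfl⟩ := Ideal.mem_span_singleton'.mp hb
  refine ⟨c * h₀, u, hup, ?_, fun q' hq' hq'p hne => ?_⟩
  · have : c * h₀ * s - algebraMap A B u = -a := by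
      rw [← hab]; ring
    rw [this]
    exact q.neg_mem ha
  · have h1 : q' ∈ T := Finset.mem_erase.mpr ⟨hne, hfin.mem_toFinset.mpr ⟨hq', ⟨hq'p.symm⟩⟩⟩
    exact Ideal.mul_mem_left _ _ ((Finset.inf_le h1 : T.inf id ≤ q') hh₀)

/-- **Forms which are traces of integral elements.** -/
theorem main (hA : ∀ n : ℕ, n ≠ 0 → IsUnit (n : A))
    (hinj : Function.Injective (algebraMap A B)) (θ : B →ₗ[A] A)
    (hθ : ∀ p : Ideal A, p.IsPrime → p.height = 1 → ∀ a : B,
      (∀ q : Ideal B, q.IsPrime → q.comap (algebraMap A B) = p → a ∈ q) → θ a ∈ p) :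
    ∃ g : B, ∀ b : B, algebraMap A K (θ b) = Algebra.trace K L (algebraMap B L (g * b)) := by
  obtain ⟨g, hg⟩ := exists_field (K := K) (L := L) hA hinj θ
  have : FaithfulSMul A B := (faithfulSMul_iff_algebraMap_injective A B).mpr hinj
  have : IsNoetherianRing B := IsNoetherianRing.of_finite A B
  have : FiniteDimensional K L := finiteDimensional (A := A) (B := B) hinj
  have hgB : g ∈ Set.range (algebraMap B L) := by
    apply K475.RefAlg.hartogs
    intro q hq hq1
    have hp1 : (q.under A).height = 1 :=
      Groth.Agent.Grpsch.AmpPrincipal.height_under_eq_one q hq1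
    obtain ⟨x, y, hy, hxy⟩ := IsFractionRing.div_surjective (A := B) g
    have hy0 : algebraMap B L y ≠ 0 := by
      rw [Ne, IsFractionRing.to_map_eq_zero_iff]
      exact nonZeroDivisors.ne_zero hy
    have hgy : g * algebraMap B L y = algebraMap B L x := by
      rw [← hxy, div_mul_cancel₀ _ hy0]
    rcases dvd_total_of_height_one q hq1 y x with ⟨b, s, hs, hsb⟩ | ⟨b, s, hs, hsb⟩
    · refine ⟨s, hs, b, ?_⟩
      apply mul_right_cancel₀ hy0
      rw [mul_assoc, hgy, ← map_mul, ← map_mul, hsb]
    -- now `g * b = s`, `s ∉ q`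
    have hgb : g * algebraMap B L b = algebraMap B L s := by
      apply mul_right_cancel₀ hy0
      rw [mul_right_comm, hgy, ← map_mul, ← map_mul, hsb, mul_comm]
    by_cases hbq : b ∈ q
    swap
    · exact ⟨b, hbq, s, by rw [← hgb, mul_comm]⟩
    exfalso
    have hp : (q.under A).IsPrime := inferInstance
    obtain ⟨h, u, hu, hhs, hh⟩ := exists_sep (q.under A) q rfl s hs
    have htr : Algebra.intTrace A B (h * s) = θ (h * b) := by
      apply IsFractionRing.injective A K
      rw [Algebra.algebraMap_intTrace (K := K) (L := L), hg]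
      congr 1
      rw [map_mul (algebraMap B L), map_mul (algebraMap B L), mul_left_comm, hgb]
    refine intTrace_notMem hA hinj (q.under A) hp1 (h * s) u hu ?_ q hq rfl ?_ ?_
    · intro q' hq' hq'p
      by_cases hne : q' = q
      · rw [hne]
        exact Ideal.mul_mem_left _ _ hhs
      · exact Ideal.mul_mem_right _ _ (Ideal.mul_mem_right _ _ (hh q' hq' hq'p hne))
    · intro hhsq
      apply hu
      have := q.sub_mem hhsq hhs
      rw [sub_sub_cancel] at this
      exact this
    · rw [htr]
      refine hθ (q.under A) hp hp1 (h * b) fun q' hq' hq'p => ?_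
      by_cases hne : q' = q
      · rw [hne]
        exact Ideal.mul_mem_left _ _ hbq
      · exact Ideal.mul_mem_right _ _ (hh q' hq' hq'p hne)
  obtain ⟨g', rfl⟩ := hgB
  exact ⟨g', fun b => by rw [hg b, ← map_mul (algebraMap B L)]⟩

end Main

end K562.TraceAlg
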